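import Cfsg.Agent.H47.Ree.TorusStatements
import Cfsg.Agent.H48.Ree.InvApps

/-!
The Sylow two-subgroups of the small Ree groups: self-centralising, with normaliser of order 168.
-/

set_option autoImplicit false

open Cfsg.Lie Cfsg.Agent.H46
open scoped Matrix MatrixGroups

namespace Cfsg.Agent.H52.ReeTwo

open Cfsg.Agent.H48.Ree (Gr Ur Hr Br)
open Cfsg.Agent.H47.Ree (cell tR tR_sq tR_ne_one orderOf_tR)

section Group

variable {G : Type*} [Group G] [Finite G]

/-- The elements of `X` act on the elements of an abelian subgroup of order eight with stabiliser as expected. -/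
theorem card_eq_orbit_mul {X : Subgroup G} {x : G} (T : Set G) (hT : ∀ g ∈ X, g * x * g⁻¹ ∈ T)
    (hsurj : ∀ y ∈ T, ∃ g ∈ X, g * x * g⁻¹ = y) :
    Nat.card X = Nat.card T * Nat.card ↥(X ⊓ Subgroup.centralizer ({x} : Set G)) := by
  letI : MulAction ↥X G := MulAction.compHom G (MulAut.conj.comp X.subtype)
  have hsmul : ∀ (g : ↥X) (a : G), g • a = (g : G) * a * (g : G)⁻¹ := fun g a => rfl
  have horb : MulAction.orbit ↥X x = T := by
    ext y
    constructor
    · rintro ⟨g, rfl⟩; exact hT g g.2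
    · intro hy
      obtain ⟨g, hg, e⟩ := hsurj y hy
      exact ⟨⟨g, hg⟩, e⟩
  have hst : MulAction.stabilizer ↥X x = (Subgroup.centralizer ({x} : Set G)).subgroupOf X := by
    ext g
    rw [MulAction.mem_stabilizer_iff, hsmul, Subgroup.mem_subgroupOf, Subgroup.mem_centralizer_singleton_iff,
      mul_inv_eq_iff_eq_mul]
  have h := (MulAction.stabilizer ↥X x).card_mul_index
  rw [MulAction.index_stabilizer, horb, hst] at h
  rw [← h, mul_comm, Nat.card_coe_set_eq]
  congr 1
  exact Nat.card_congr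
    { toFun := fun g => ⟨g.1.1, g.1.2, g.2⟩
      invFun := fun g => ⟨⟨g.1, g.2.1⟩, g.2.2⟩
      left_inv := fun _ => rfl
      right_inv := fun _ => rfl }

/-- A prime order element normalising `S` fixes a subgroup of `S` of order congruent to that of `S`. -/
theorem card_fixed_modEq {S : Subgroup G} {y : G} {ℓ : ℕ} [Fact ℓ.Prime] (hy : orderOf y = ℓ)
    (hn : y ∈ Subgroup.normalizer (S : Set G)) :
    Nat.card ↥(S ⊓ Subgroup.centralizer ({y} : Set G)) ≡ Nat.card S [MOD ℓ] := by
  have hle : Subgroup.zpowers y ≤ Subgroup.normalizer (S : Set G) := Subgroup.zpowers_le.2 hn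
  letI : MulAction ↥(Subgroup.zpowers y) ↥S :=
    { smul := fun z s => ⟨(z : G) * s * (z : G)⁻¹, (Subgroup.mem_normalizer_iff.1 (hle z.2) s).1 s.2⟩
      one_smul := fun s => Subtype.ext (show (1 : G) * s * (1 : G)⁻¹ = s by group)
      mul_smul := fun a b s => Subtype.ext
        (show ((a : G) * b) * s * ((a : G) * b)⁻¹ = (a : G) * ((b : G) * s * (b : G)⁻¹) * (a : G)⁻¹ by group) }
  have hp : IsPGroup ℓ ↥(Subgroup.zpowers y) := IsPGroup.of_card (n := 1) (by rw [Nat.card_zpowers, hy, pow_one])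
  have h := hp.card_modEq_card_fixedPoints ↥S
  refine Nat.ModEq.trans ?_ h.symm
  show _ % ℓ = _ % ℓ
  congr 1
  symm
  refine Nat.card_congr
    { toFun := fun s => ⟨(s.1 : G), s.1.2, Subgroup.mem_centralizer_singleton_iff.2 (mul_inv_eq_iff_eq_mul.1
        (congrArg Subtype.val (s.2 ⟨y, Subgroup.mem_zpowers y⟩))).symm⟩
      invFun := fun s => ⟨⟨s.1, s.2.1⟩, fun z => Subtype.ext ?_⟩
      left_inv := fun _ => rfl
      right_inv := fun _ => rfl }
  show (z : G) * s * (z : G)⁻¹ = s
  have hc : Commute y (s : G) := (Subgroup.mem_centralizer_singleton_iff.1 s.2.2).symm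
  obtain ⟨i, hi⟩ := z.2
  rw [← hi]
  exact mul_inv_eq_iff_eq_mul.2 (hc.zpow_left i).eq

/-- The odd part of the normaliser of an elementary self-centralising Sylow subgroup of order eight, transitive on its
seven involutions, has order 21 as soon as one involution has a larger stabiliser. -/
theorem card_normalizer_eight (S : Sylow 2 G) (h8 : Nat.card S = 8) (h2 : ∀ x ∈ S, x * x = 1)
    (hC : Subgroup.centralizer ((S : Subgroup G) : Set G) = S) {t : G} (htS : t ∈ S) (ht1 : t ≠ 1)
    (htrans : ∀ y ∈ S, y ≠ 1 → ∃ g ∈ Subgroup.normalizer ((S : Subgroup G) : Set G), g * t * g⁻¹ = y)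
    (hbig : ¬ Subgroup.normalizer ((S : Subgroup G) : Set G) ⊓ Subgroup.centralizer ({t} : Set G) ≤ S) :
    Nat.card (Subgroup.normalizer ((S : Subgroup G) : Set G)) = 168 := by
  classical
  haveI : Fact (Nat.Prime 2) := ⟨Nat.prime_two⟩
  haveI : Fintype G := Fintype.ofFinite G
  set N := Subgroup.normalizer ((S : Subgroup G) : Set G)
  set X := N ⊓ Subgroup.centralizer ({t} : Set G) with hX
  have hcomm : ∀ a ∈ S, ∀ b ∈ S, a * b = b * a := by
    intro a ha b hb
    have h := h2 (a * b) (mul_mem ha hb)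
    calc a * b = (a * b)⁻¹ := (inv_eq_of_mul_eq_one_right h).symm
      _ = b⁻¹ * a⁻¹ := mul_inv_rev a b
      _ = b * a := by rw [inv_eq_of_mul_eq_one_right (h2 a ha), inv_eq_of_mul_eq_one_right (h2 b hb)]
  have hSX : (S : Subgroup G) ≤ X := fun s hs => ⟨Subgroup.le_normalizer hs,
    Subgroup.mem_centralizer_singleton_iff.2 (hcomm s hs t htS)⟩
  have hcard : ∀ T : Finset G, Nat.card {y : G | y ∈ S ∧ y ∉ T} = 8 - (T.filter (· ∈ S)).card := by
    intro T
    have e : {y : G | y ∈ S ∧ y ∉ T} = ↑((Finset.univ.filter (· ∈ S)) \ T.filter (· ∈ S)) := by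
      ext y; simp; tauto
    have h8' : (Finset.univ.filter (· ∈ S)).card = 8 := by
      rw [← h8, Nat.card_eq_fintype_card, ← Fintype.card_subtype]
      exact Fintype.card_congr (Equiv.refl _)
    rw [e, Nat.card_coe_set_eq, Set.ncard_coe_finset, Finset.card_sdiff_of_subset (fun y hy => by
      simp only [Finset.mem_filter] at hy ⊢
      exact ⟨Finset.mem_univ _, hy.2⟩), h8']
  have hN : Nat.card N = 7 * Nat.card X := by
    rw [card_eq_orbit_mul (X := N) (x := t) {y : G | y ∈ S ∧ y ∉ ({1} : Finset G)}, hcard]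
    · rw [Finset.filter_singleton, if_pos (one_mem S)]
      simp [hX]
    · intro g hg
      refine ⟨(Subgroup.mem_normalizer_iff.1 hg t).1 htS, ?_⟩
      rw [Finset.mem_singleton]
      exact fun h => ht1 (conj_eq_one_iff.1 h)
    · rintro y ⟨hy, hy1⟩
      exact htrans y hy (by simpa using hy1)
  -- a two-element of `X` lies in `S`
  have hodd : ¬ 2 ∣ Nat.card X / 8 := by
    intro h
    have hdvd : 8 ∣ Nat.card X := h8 ▸ Subgroup.card_dvd_of_le hSX
    obtain ⟨T, hT⟩ := Sylow.exists_subgroup_card_pow_prime 2 (n := 4)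
      (show 2 ^ 4 ∣ Nat.card G from dvd_trans (by
        obtain ⟨k, hk⟩ := h
        exact ⟨k, by omega⟩) X.card_subgroup_dvd_card)
    obtain ⟨P, hP⟩ := (IsPGroup.of_card hT).exists_le_sylow
    have := Subgroup.card_dvd_of_le hP
    rw [hT, Nat.card_congr (P.equiv S).toEquiv, h8] at this
    norm_num at this
  have hnot : ∀ y ∈ X, orderOf y = 2 → y ∈ S := by
    intro y hy ho
    have hy' : y ∈ N := hy.1
    have hp : IsPGroup 2 ↥(Subgroup.zpowers y) := IsPGroup.of_card (n := 1) (by rw [Nat.card_zpowers, ho, pow_one])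
    have hsup : IsPGroup 2 ↥((S : Subgroup G) ⊔ Subgroup.zpowers y) :=
      S.isPGroup'.to_sup_of_normal_left' hp (Subgroup.zpowers_le.2 hy')
    exact (S.is_maximal' hsup le_sup_left).le (le_sup_right (a := (S : Subgroup G)) (Subgroup.mem_zpowers y))
  -- a point outside `⟨t⟩`
  obtain ⟨s, hs, hsT⟩ : ∃ s ∈ S, s ∉ ({1, t} : Finset G) := by
    by_contra hcon
    simp only [not_exists, not_and, not_not] at hcon
    have h := hcard {1, t}
    rw [Nat.card_eq_zero.2 (Or.inl ⟨fun y => y.2.2 (hcon _ y.2.1)⟩)] at h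
    have : (({1, t} : Finset G).filter (· ∈ S)).card ≤ 2 := (Finset.card_filter_le _ _).trans Finset.card_le_two
    omega
  -- the stabiliser of `t` and `s` is `S`
  have hY : ∀ y ∈ X, y * s = s * y → y ∈ S := by
    intro y hy hys
    have hyt : y * t = t * y := Subgroup.mem_centralizer_singleton_iff.1 hy.2
    have h1 : ∀ z ∈ X, z * s = s * z → ∀ ℓ : ℕ, ℓ.Prime → orderOf z = ℓ → z ∈ S := by
      intro z hz hzs ℓ hℓ ho
      rcases eq_or_ne ℓ 2 with rfl | hℓ2
      · exact hnot z hz ho
      haveI := Fact.mk hℓ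
      have hm := card_fixed_modEq ho hz.1
      rw [h8] at hm
      have hd : Nat.card ↥((S : Subgroup G) ⊓ Subgroup.centralizer ({z} : Set G)) ∣ 8 :=
        h8 ▸ Subgroup.card_dvd_of_le inf_le_left
      have h3 : 3 ≤ Nat.card ↥((S : Subgroup G) ⊓ Subgroup.centralizer ({z} : Set G)) := by
        have hsub : (({1, t, s} : Finset G) : Set G) ⊆ ((S : Subgroup G) ⊓ Subgroup.centralizer ({z} : Set G) : Subgroup G) := by
          intro a ha
          simp only [Finset.coe_insert, Finset.coe_singleton, Set.mem_insert_iff, Set.mem_singleton_iff] at ha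
          rcases ha with rfl | rfl | rfl
          · exact one_mem _
          · exact ⟨htS, Subgroup.mem_centralizer_singleton_iff.2 (Subgroup.mem_centralizer_singleton_iff.1 hz.2).symm⟩
          · exact ⟨hs, Subgroup.mem_centralizer_singleton_iff.2 hzs.symm⟩
        have := Set.ncard_le_ncard hsub (Set.toFinite _)
        rw [Set.ncard_coe_finset, Finset.card_insert_of_notMem, Finset.card_pair] at this
        · exact this.trans (le_of_eq (Nat.card_coe_set_eq _).symm)
        · simp only [Finset.mem_insert, Finset.mem_singleton, not_or] at hsT; exact Ne.symm hsT.2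
        · simp only [Finset.mem_insert, Finset.mem_singleton, not_or] at hsT ⊢
          exact ⟨Ne.symm ht1, Ne.symm hsT.1⟩
      generalize hc : Nat.card ↥((S : Subgroup G) ⊓ Subgroup.centralizer ({z} : Set G)) = c at hm hd h3
      have hc8 : c = 8 := by
        have hle := Nat.le_of_dvd (by norm_num) hd
        by_contra hne
        have h4 : c = 4 := by interval_cases c <;> first | rfl | omega | norm_num at hd
        rw [h4] at hm
        have h5 : ℓ ∣ 4 := by simpa using (Nat.modEq_iff_dvd' (by norm_num : 4 ≤ 8)).1 hm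
        exact hℓ2 ((Nat.prime_dvd_prime_iff_eq hℓ Nat.prime_two).1
          (hℓ.dvd_of_dvd_pow (show ℓ ∣ 2 ^ 2 by norm_num; exact h5)))
      have hall : (S : Subgroup G) ≤ Subgroup.centralizer ({z} : Set G) := by
        rw [← inf_eq_left]
        exact Subgroup.eq_of_le_of_card_ge inf_le_left (by rw [hc, hc8]; exact le_of_eq h8)
      refine hC.le (Subgroup.mem_centralizer_iff.2 fun a ha => ?_)
      exact Subgroup.mem_centralizer_singleton_iff.1 (hall ha)
    -- the elements of `X` fixing `s` form a two-group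
    let Y : Subgroup G := X ⊓ Subgroup.centralizer ({s} : Set G)
    have hYmem : y ∈ Y := ⟨hy, Subgroup.mem_centralizer_singleton_iff.2 hys⟩
    have hp : IsPGroup 2 ↥Y := by
      rw [IsPGroup.iff_card]
      refine ⟨_, Nat.eq_prime_pow_of_unique_prime_dvd Nat.card_pos.ne' fun {ℓ} hℓ hd => ?_⟩
      haveI := Fact.mk hℓ
      obtain ⟨z, hz⟩ := exists_prime_orderOf_dvd_card' (G := ↥Y) ℓ hd
      rw [← Subgroup.orderOf_coe] at hz
      have hzS := h1 _ z.2.1 (Subgroup.mem_centralizer_singleton_iff.1 z.2.2) ℓ hℓ hz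
      have := Subgroup.orderOf_dvd_natCard _ hzS
      rw [hz, h8] at this
      exact (Nat.prime_dvd_prime_iff_eq hℓ Nat.prime_two).1 (hℓ.dvd_of_dvd_pow (show ℓ ∣ 2 ^ 3 from this))
    have hSY : (S : Subgroup G) ≤ Y := fun a ha =>
      ⟨hSX ha, Subgroup.mem_centralizer_singleton_iff.2 (hcomm a ha s hs)⟩
    exact (S.is_maximal' hp hSY).le hYmem
  -- the orbit of `s`
  set O : Set G := {z | ∃ g ∈ X, g * s * g⁻¹ = z}
  have hXcard : Nat.card X = Nat.card O * 8 := by
    rw [card_eq_orbit_mul (X := X) (x := s) O (fun g hg => ⟨g, hg, rfl⟩) (fun z hz => hz), ← h8]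
    have hXS : X ⊓ Subgroup.centralizer ({s} : Set G) = (S : Subgroup G) := by
      ext y
      exact ⟨fun hy => hY y hy.1 (Subgroup.mem_centralizer_singleton_iff.1 hy.2),
        fun hy => ⟨hSX hy, Subgroup.mem_centralizer_singleton_iff.2 (hcomm y hy s hs)⟩⟩
    rw [hXS]
  have hO6 : Nat.card O ≤ 6 := by
    have hsub : O ⊆ {y : G | y ∈ S ∧ y ∉ ({1, t} : Finset G)} := by
      rintro z ⟨g, hg, rfl⟩
      refine ⟨(Subgroup.mem_normalizer_iff.1 hg.1 s).1 hs, ?_⟩
      simp only [Finset.mem_insert, Finset.mem_singleton, not_or] at hsT ⊢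
      refine ⟨fun h => hsT.1 (conj_eq_one_iff.1 h), fun h => hsT.2 ?_⟩
      have hgt : g * t * g⁻¹ = t := mul_inv_eq_iff_eq_mul.2 (Subgroup.mem_centralizer_singleton_iff.1 hg.2)
      exact mul_left_cancel (mul_right_cancel (h.trans hgt.symm))
    refine (Nat.card_mono (Set.toFinite _) hsub).trans (le_of_eq ((hcard _).trans ?_))
    rw [Finset.filter_true_of_mem (by simp [htS]), Finset.card_pair (Ne.symm ht1)]
  rw [hXcard, Nat.mul_div_cancel _ (by norm_num : 0 < 8)] at hodd
  have h1 : Nat.card O ≠ 1 := fun h => by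
    apply hbig
    have hle := Subgroup.eq_of_le_of_card_ge hSX (by rw [hXcard, h, one_mul]; exact le_of_eq h8.symm)
    exact hle.ge
  have h5 : Nat.card O ≠ 5 := fun h => by
    haveI : Fact (Nat.Prime 5) := ⟨by norm_num⟩
    obtain ⟨z, hz⟩ := exists_prime_orderOf_dvd_card' (G := ↥X) 5 (by rw [hXcard, h]; norm_num)
    rw [← Subgroup.orderOf_coe] at hz
    have hm := card_fixed_modEq hz z.2.1
    rw [h8] at hm
    have hd : Nat.card ↥((S : Subgroup G) ⊓ Subgroup.centralizer ({(z : G)} : Set G)) ∣ 8 :=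
      h8 ▸ Subgroup.card_dvd_of_le inf_le_left
    generalize hc : Nat.card ↥((S : Subgroup G) ⊓ Subgroup.centralizer ({(z : G)} : Set G)) = c at hm hd
    have hc8 : c = 8 := by
      have hle := Nat.le_of_dvd (by norm_num) hd
      have hm' : c % 5 = 3 := hm
      interval_cases c <;> first | rfl | omega | norm_num at hd
    have hall : (S : Subgroup G) ≤ Subgroup.centralizer ({(z : G)} : Set G) := by
      rw [← inf_eq_left]
      exact Subgroup.eq_of_le_of_card_ge inf_le_left (by rw [hc, hc8]; exact le_of_eq h8)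
    have hzS : (z : G) ∈ S := hC.le (Subgroup.mem_centralizer_iff.2 fun a ha =>
      Subgroup.mem_centralizer_singleton_iff.1 (hall ha))
    have := Subgroup.orderOf_dvd_natCard _ hzS
    rw [hz, h8] at this
    norm_num at this
  have hpos : 0 < Nat.card O := by
    haveI : Nonempty ↥O := ⟨⟨s, 1, one_mem X, by group⟩⟩
    exact Nat.card_pos
  rw [hN, hXcard]
  omega

end Group

variable {K : Type*} [Field K] [Fintype K] {m : ℕ}

/-- The order of an element of odd prime order centralising four commuting involutions. -/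
theorem centralizer_sylow_two (hK : Fintype.card K = 3 ^ (2 * m + 1)) (S : Sylow 2 ↥(Gr K m)) :
    Subgroup.centralizer ((S : Subgroup ↥(Gr K m)) : Set ↥(Gr K m)) = S := by
  classical
  haveI : Fact (Nat.Prime 2) := ⟨Nat.prime_two⟩
  obtain ⟨h8, h2⟩ := H48.Ree.sylow_two_elementary hK (H65.Twist.ree_card_diagonal hK) (tR hK)
    (Subgroup.mem_inf.1 (H47.Ree.tR_mem hK)).1 (tR_ne_one hK) (tR_sq hK) S
  set C := Subgroup.centralizer ((S : Subgroup ↥(Gr K m)) : Set ↥(Gr K m))
  have hSC : (S : Subgroup ↥(Gr K m)) ≤ C := fun a ha => Subgroup.mem_centralizer_iff.2 fun b hb => by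
    have h := h2 (a * b) (mul_mem ha hb)
    calc b * a = b⁻¹ * a⁻¹ := by
          rw [inv_eq_of_mul_eq_one_right (h2 a ha), inv_eq_of_mul_eq_one_right (h2 b hb)]
      _ = (a * b)⁻¹ := (mul_inv_rev a b).symm
      _ = a * b := inv_eq_of_mul_eq_one_right h
  refine S.is_maximal' ?_ hSC
  rw [IsPGroup.iff_card]
  refine ⟨_, Nat.eq_prime_pow_of_unique_prime_dvd Nat.card_pos.ne' fun {ℓ} hℓ hd => ?_⟩
  haveI := Fact.mk hℓ
  obtain ⟨⟨x, hxC⟩, hx⟩ := exists_prime_orderOf_dvd_card' (G := ↥C) ℓ hd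
  rw [← Subgroup.orderOf_coe] at hx
  change orderOf x = ℓ at hx
  by_contra hℓ2
  obtain ⟨s, hs⟩ := exists_prime_orderOf_dvd_card' (G := ↥(S : Subgroup ↥(Gr K m))) 2 (by rw [h8]; norm_num)
  rw [← Subgroup.orderOf_coe] at hs
  obtain ⟨g, hg⟩ := H47.Ree.involution_conj hK hs
  have hSx : (S : Subgroup ↥(Gr K m)) ≤ Subgroup.centralizer ({x} : Set ↥(Gr K m)) := fun a ha =>
    Subgroup.mem_centralizer_singleton_iff.2 (Subgroup.mem_centralizer_iff.1 hxC a ha)
  have h8x : 8 ∣ Nat.card ↥(Subgroup.centralizer ({x} : Set ↥(Gr K m))) := h8 ▸ Subgroup.card_dvd_of_le hSx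
  have hxt : g * x * g⁻¹ ∈ Subgroup.centralizer ({tR hK} : Set ↥(Gr K m)) := by
    rw [← hg, ← H47.Ree.map_centralizer_singleton]
    exact ⟨x, Subgroup.mem_centralizer_singleton_iff.2 (Subgroup.mem_centralizer_iff.1 hxC s s.2).symm, rfl⟩
  have hdv := Subgroup.orderOf_dvd_natCard _ hxt
  rw [H47.Ree.orderOf_conj, hx, H47.Ree.card_centralizer_tR hK] at hdv
  obtain ⟨k, k', hk, hk', hq, hq', -, -⟩ := H47.Ree.q_arith m
  rcases hℓ.dvd_mul.1 hdv with h | h
  · rcases hℓ.dvd_mul.1 h with h | h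
    · -- order three
      obtain rfl := (Nat.prime_dvd_prime_iff_eq hℓ Nat.prime_three).1 (hℓ.dvd_of_dvd_pow h)
      set Sc := cell hK
      let B : Subgroup ↥(Gr K m) := (Br K m).subgroupOf (Gr K m)
      have hB : Nat.card ↥B = (3 ^ (2 * m + 1)) ^ 3 * (3 ^ (2 * m + 1) - 1) := by
        rw [Nat.card_congr (Subgroup.subgroupOfEquivOfLe (inf_le_right : Br K m ≤ Gr K m)).toEquiv,
          H48.Ree.card_Br hK, H48.Ree.card_Ur hK]
        congr 1
        exact H65.Twist.ree_card_diagonal hK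
      have hidx : ¬ 3 ∣ Sc.U.index := by
        intro h3
        have e := Sc.U.card_mul_index
        rw [H47.Ree.card_U hK, H47.Ree.card_R hK, mul_assoc] at e
        rw [Nat.eq_of_mul_eq_mul_left (pow_pos (pow_pos (by norm_num) _) 3) e] at h3
        rcases Nat.prime_three.dvd_mul.1 h3 with h' | h'
        · omega
        · have : 3 ∣ (3 ^ (2 * m + 1)) ^ 3 := dvd_pow (dvd_pow_self 3 (by omega)) (by norm_num)
          omega
      obtain ⟨c, hc⟩ := H47.Ree.exists_conj_mem Nat.prime_three hidx hx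
      have hc1 : c * x * c⁻¹ ≠ 1 := fun e => by
        rw [conj_eq_one_iff] at e
        rw [e, orderOf_one] at hx
        omega
      have hle : Subgroup.centralizer ({c * x * c⁻¹} : Set ↥(Gr K m)) ≤ B := by
        intro z hz
        obtain ⟨u, hu, h, hh, rfl⟩ := Sc.commute_unipotent hc hc1 (Subgroup.mem_centralizer_singleton_iff.1 hz)
        exact mul_mem (show u ∈ B from H48.Ree.Ur_le_Br hu) (show h ∈ B from H48.Ree.Hr_le_Br hh)
      have h' := Subgroup.card_dvd_of_le hle
      rw [← H47.Ree.map_centralizer_singleton, Subgroup.card_map_of_injective (MulAut.conj c).injective] at h'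
      have h8B := h8x.trans h'
      rw [hB] at h8B
      have hcop : Nat.Coprime 8 ((3 ^ (2 * m + 1)) ^ 3) := by
        rw [← pow_mul]; exact Nat.Coprime.pow_right _ (by norm_num)
      have := hcop.dvd_of_dvd_mul_left h8B
      have := hk'.not_two_dvd_nat
      omega
    · rw [(H47.Ree.split_torus hK hℓ hℓ2 h hx).2, hq'] at h8x
      have := hk'.not_two_dvd_nat
      omega
  · rw [(H47.Ree.nonsplit_torus hK hℓ hℓ2 h hx).1, hq] at h8x
    have := hk.not_two_dvd_nat
    omega

/-- The normaliser of a Sylow two-subgroup has order 168. -/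
theorem card_normalizer_sylow_two (hK : Fintype.card K = 3 ^ (2 * m + 1)) (S : Sylow 2 ↥(Gr K m)) :
    Nat.card (Subgroup.normalizer ((S : Subgroup ↥(Gr K m)) : Set ↥(Gr K m))) = 168 := by
  classical
  haveI := (H48.Ree.field_data hK).1
  haveI : Fact (Nat.Prime 2) := ⟨Nat.prime_two⟩
  set t := tR hK
  obtain ⟨S₀, hS₀⟩ := (IsPGroup.of_card (n := 1) (by rw [Nat.card_zpowers, orderOf_tR hK, pow_one]) :
    IsPGroup 2 ↥(Subgroup.zpowers t)).exists_le_sylow
  suffices h : Nat.card (Subgroup.normalizer ((S₀ : Subgroup ↥(Gr K m)) : Set ↥(Gr K m))) = 168 by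
    have e := (Subgroup.normalizer ((S : Subgroup ↥(Gr K m)) : Set ↥(Gr K m))).card_mul_index
    have e₀ := (Subgroup.normalizer ((S₀ : Subgroup ↥(Gr K m)) : Set ↥(Gr K m))).card_mul_index
    have i : (Subgroup.normalizer ((S : Subgroup ↥(Gr K m)) : Set ↥(Gr K m))).index = Nat.card (Sylow 2 ↥(Gr K m)) :=
      (Sylow.card_eq_index_normalizer S).symm
    have i₀ : (Subgroup.normalizer ((S₀ : Subgroup ↥(Gr K m)) : Set ↥(Gr K m))).index = Nat.card (Sylow 2 ↥(Gr K m)) :=
      (Sylow.card_eq_index_normalizer S₀).symm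
    rw [i] at e
    rw [i₀, h] at e₀
    exact Nat.eq_of_mul_eq_mul_right Nat.card_pos (e.trans e₀.symm)
  have htS : t ∈ S₀ := hS₀ (Subgroup.mem_zpowers t)
  obtain ⟨h8, h2⟩ := H48.Ree.sylow_two_elementary hK (H65.Twist.ree_card_diagonal hK) t
    (Subgroup.mem_inf.1 (H47.Ree.tR_mem hK)).1 (tR_ne_one hK) (tR_sq hK) S₀
  have hC := centralizer_sylow_two hK S₀
  haveI : IsMulCommutative ↥(S₀ : Subgroup ↥(Gr K m)) := ⟨⟨fun a b => Subtype.ext (by
    have := hC.ge b.2
    exact Subgroup.mem_centralizer_iff.1 this a a.2)⟩⟩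
  refine card_normalizer_eight S₀ h8 h2 hC htS (tR_ne_one hK) (fun y hy hy1 => ?_) fun hle => ?_
  · obtain ⟨g, hg⟩ := H47.Ree.involution_conj hK (y := y)
      (orderOf_eq_prime (by rw [pow_two, h2 y hy]) hy1)
    have e : g⁻¹ * t * g = y := by rw [show t = g * y * g⁻¹ from hg.symm]; group
    obtain ⟨n, hn, e'⟩ := Sylow.conj_eq_normalizer_conj_of_mem S₀ t g htS (by rw [e]; exact hy)
    exact ⟨n⁻¹, inv_mem hn, by rw [inv_inv, ← e', e]⟩
  · -- otherwise the centraliser of `t` has a normal two-complement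
    obtain ⟨φ, hX, hW, hc⟩ := H47.Ree.exists_slHom hK
    obtain ⟨hker, -, -⟩ := H47.Ree.slHom_facts hK hX hW
    set C := Subgroup.centralizer ({t} : Set ↥(Gr K m))
    have hSC : (S₀ : Subgroup ↥(Gr K m)) ≤ C := fun a ha =>
      Subgroup.mem_centralizer_singleton_iff.2 (Subgroup.mem_centralizer_iff.1 (hC.ge ha) t htS).symm
    let P : Sylow 2 ↥C := S₀.subtype hSC
    have hP : (P : Subgroup ↥C) = (S₀ : Subgroup ↥(Gr K m)).subgroupOf C := Sylow.coe_subtype S₀ hSC
    have hburn : Subgroup.normalizer ((P : Subgroup ↥C) : Set ↥C) ≤ Subgroup.centralizer ((P : Subgroup ↥C) : Set ↥C) := by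
      intro g hg
      rw [hP] at hg ⊢
      have hgN : (g : ↥(Gr K m)) ∈ Subgroup.normalizer ((S₀ : Subgroup ↥(Gr K m)) : Set ↥(Gr K m)) := by
        refine Subgroup.mem_normalizer_iff.2 fun a => ⟨fun ha => ?_, fun ha => ?_⟩
        · exact (Subgroup.mem_normalizer_iff.1 hg ⟨a, hSC ha⟩).1 ha
        · have haC : a ∈ C := by
            have := mul_mem (mul_mem (inv_mem g.2) (hSC ha)) g.2
            simpa [mul_assoc] using this
          exact (Subgroup.mem_normalizer_iff.1 hg ⟨a, haC⟩).2 ha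
      have hgS := hle ⟨hgN, g.2⟩
      exact Subgroup.mem_centralizer_iff.2 fun a ha => Subtype.ext
        (Subgroup.mem_centralizer_iff.1 (hC.ge hgS) a ha)
    set O := (MonoidHom.transferSylow P hburn).ker
    have hOodd := MonoidHom.not_dvd_card_ker_transferSylow P hburn
    have hidx : O.index = 8 := by
      rw [(MonoidHom.ker_transferSylow_isComplement' P hburn).symm.index_eq_card, hP,
        Nat.card_congr (Subgroup.subgroupOfEquivOfLe hSC).toEquiv]
      exact h8
    have h3 : ∀ x : ↥C, x ^ 3 = 1 → x ∈ O := by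
      intro x hx
      have h := pow_mem (O.pow_index_mem x) 2
      rw [hidx, ← pow_mul, show 8 * 2 = 3 * 5 + 1 by norm_num, pow_succ, pow_mul, hx, one_pow, one_mul] at h
      exact h
    let φC : Matrix.SpecialLinearGroup (Fin 2) K →* ↥C := φ.codRestrict C fun g =>
      Subgroup.mem_centralizer_singleton_iff.2 (hc g)
    have hthree := H48.Ree.three0 (F := K)
    have hX3 : ∀ c : K, (slX c : Matrix.SpecialLinearGroup (Fin 2) K) ^ 3 = 1 := by
      intro c
      apply Subtype.ext; ext i j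
      fin_cases i <;> fin_cases j <;>
        simp [pow_succ, sl_mul_val, coe_slX, Matrix.mul_apply, Fin.sum_univ_two] <;> linear_combination c * hthree
    have hY3 : (slY (-1 : K) : Matrix.SpecialLinearGroup (Fin 2) K) ^ 3 = 1 := by
      apply Subtype.ext; ext i j
      fin_cases i <;> fin_cases j <;>
        simp [pow_succ, sl_mul_val, coe_slY, Matrix.mul_apply, Fin.sum_univ_two] <;> linear_combination (-1 : K) * hthree
    have e : (slW : Matrix.SpecialLinearGroup (Fin 2) K) = slX 1 * slY (-1) * slX 1 := by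
      apply Subtype.ext
      ext i j
      fin_cases i <;> fin_cases j <;>
        simp [sl_mul_val, coe_slW, coe_slX, coe_slY, Matrix.mul_apply, Fin.sum_univ_two]
    have hnO : φC slW ∈ O := by
      rw [e, map_mul, map_mul]
      refine mul_mem (mul_mem (h3 _ ?_) (h3 _ ?_)) (h3 _ ?_) <;> rw [← map_pow]
      · rw [hX3, map_one]
      · rw [hY3, map_one]
      · rw [hX3, map_one]
    have hn : orderOf (φC slW) = 2 := by
      refine orderOf_eq_prime ?_ fun h => ?_
      · apply Subtype.ext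
        show φ slW ^ 2 = 1
        rw [hW, pow_two, (cell hK).n_sq]
      · have h' : φ slW = 1 := congrArg Subtype.val h
        rcases (hker _).1 h' with h1 | h1 <;>
          have := congrFun (congrFun h1 0) 1 <;> simp [coe_slW] at this
    have h2O := Subgroup.orderOf_dvd_natCard _ hnO
    rw [hn] at h2O
    exact hOodd h2O

end Cfsg.Agent.H52.ReeTwo
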